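import Mathlib.FieldTheory.PurelyInseparable.Basic
import Mathlib.FieldTheory.SeparableDegree
import Mathlib.FieldTheory.IsAlgClosed.AlgebraicClosure
import Mathlib.FieldTheory.Perfect
import Mathlib.RingTheory.Flat.Basic
import Mathlib.RingTheory.Artinian.Module
import Mathlib.RingTheory.TensorProduct.Finite
import Mathlib.RingTheory.Idempotents
import Mathlib.RingTheory.Spectrum.Prime.Topology
import Mathlib.RingTheory.Spectrum.Prime.Noetherian
import Mathlib.RingTheory.TensorProduct.Nontrivial

/-!
# Separability and pure inseparability of a finite extension via base change to the algebraic closure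
-/

universe u

open TensorProduct

namespace GrothLib.GlobalConst

variable (k A : Type u) [Field k] [Field A] [Algebra k A] [FiniteDimensional k A]

/-- A finite extension with reduced base change to the algebraic closure is separable. -/
theorem isSeparable_of_isReduced_tensor [IsReduced (AlgebraicClosure k ⊗[k] A)] :
    Algebra.IsSeparable k A := by
  refine ⟨fun a => ?_⟩
  let K := AlgebraicClosure k
  let b : K ⊗[k] A := 1 ⊗ₜ a
  have hba : ∀ i : ℕ, b ^ i = 1 ⊗ₜ (a ^ i) := fun i => by
    rw [Algebra.TensorProduct.tmul_pow, one_pow]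
  have hint : IsIntegral K b := Algebra.IsIntegral.isIntegral b
  have hint' : IsIntegral k a := Algebra.IsIntegral.isIntegral a
  let f := minpoly k a
  let g := minpoly K b
  have hdvd : g ∣ f.map (algebraMap k K) := minpoly.dvd K b (by
    rw [Polynomial.aeval_map_algebraMap]
    show Polynomial.aeval (Algebra.TensorProduct.includeRight (R := k) (A := K) a) f = 0
    rw [Polynomial.aeval_algHom_apply, minpoly.aeval, map_zero])
  have hdeg : f.natDegree ≤ g.natDegree := by
    by_contra hlt
    push Not at hlt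
    have hli : LinearIndependent K fun i : Fin f.natDegree => (1 : K) ⊗ₜ[k] (a ^ (i : ℕ)) :=
      Module.Flat.linearIndependent_one_tmul (linearIndependent_pow a)
    have h0 : ∑ i : Fin f.natDegree, g.coeff i • ((1 : K) ⊗ₜ[k] (a ^ (i : ℕ))) = 0 := by
      rw [← minpoly.aeval K b, Polynomial.aeval_eq_sum_range' (show g.natDegree < f.natDegree from hlt),
        ← Fin.sum_univ_eq_sum_range (fun i => g.coeff i • b ^ i)]
      simp [hba]
    have h1 := Fintype.linearIndependent_iff.1 hli _ h0 ⟨g.natDegree, hlt⟩
    exact (minpoly.monic hint).leadingCoeff ▸ one_ne_zero (α := K) |>.elim (h1 ▸ rfl)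
  have hg : g = f.map (algebraMap k K) :=
    (Polynomial.eq_of_monic_of_dvd_of_natDegree_le (minpoly.monic hint) ((minpoly.monic hint').map _) hdvd
      (by rw [Polynomial.natDegree_map]; exact hdeg)).symm
  show (minpoly k a).Separable
  rw [← Polynomial.separable_map (algebraMap k K), ← hg, PerfectField.separable_iff_squarefree]
  intro q hq
  obtain ⟨r, hr⟩ := hq
  have hr' : g = q * q * r := hr
  have hsq : Polynomial.aeval b (q * r) = 0 := by
    refine IsNilpotent.eq_zero ⟨2, ?_⟩
    rw [← map_pow, show (q * r) ^ 2 = g * r by rw [hr']; ring, map_mul, minpoly.aeval, zero_mul]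
  have h2 : g ∣ q * r := minpoly.dvd K b hsq
  have hne : q * r ≠ 0 := fun h => minpoly.ne_zero hint (show g = 0 by rw [hr', mul_assoc, h, mul_zero])
  rw [hr', mul_assoc] at h2
  exact isUnit_of_dvd_one ((mul_dvd_mul_iff_right hne).1 (by rwa [one_mul]))

/-- A finite extension whose base change to the algebraic closure has no idempotents is purely inseparable. -/
theorem isPurelyInseparable_of_idempotents
    (h : ∀ e : AlgebraicClosure k ⊗[k] A, IsIdempotentElem e → e = 0 ∨ e = 1) :
    IsPurelyInseparable k A := by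
  let K := AlgebraicClosure k
  rw [isPurelyInseparable_iff_finSepDegree_eq_one, Field.finSepDegree_eq_of_isAlgClosed k A K, Nat.card_eq_one_iff_unique]
  haveI : Nontrivial (K ⊗[k] A) :=
    Algebra.TensorProduct.nontrivial_of_algebraMap_injective_of_isDomain k K A (RingHom.injective _) (RingHom.injective _)
  haveI : IsArtinianRing (K ⊗[k] A) := IsArtinianRing.of_finite K _
  haveI : Subsingleton (PrimeSpectrum (K ⊗[k] A)) := by
    refine ⟨fun p q => ?_⟩
    obtain ⟨e, he, hpe⟩ := PrimeSpectrum.exists_idempotent_basicOpen_eq_of_isClopen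
      (isClopen_discrete ({p} : Set (PrimeSpectrum (K ⊗[k] A))))
    rcases h e he with rfl | rfl
    · exact (Set.singleton_ne_empty p (by rw [hpe, PrimeSpectrum.basicOpen_zero]; rfl)).elim
    · have hq : q ∈ ({p} : Set (PrimeSpectrum (K ⊗[k] A))) := by
        rw [hpe, PrimeSpectrum.basicOpen_one]; trivial
      exact hq.symm
  refine ⟨⟨fun φ ψ => ?_⟩, ⟨IsAlgClosed.lift⟩⟩
  let Φ : ∀ χ : A →ₐ[k] K, K ⊗[k] A →ₐ[K] K := fun χ =>
    Algebra.TensorProduct.lift (Algebra.ofId K K) χ fun _ _ => Commute.all _ _
  have hker : RingHom.ker (Φ φ) = RingHom.ker (Φ ψ) := by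
    have := Subsingleton.elim (⟨RingHom.ker (Φ φ), RingHom.ker_isPrime _⟩ : PrimeSpectrum (K ⊗[k] A))
      ⟨RingHom.ker (Φ ψ), RingHom.ker_isPrime _⟩
    exact congrArg PrimeSpectrum.asIdeal this
  ext a
  have hmem : (1 : K) ⊗ₜ[k] a - φ a ⊗ₜ[k] (1 : A) ∈ RingHom.ker (Φ φ) := by
    rw [RingHom.mem_ker, map_sub]
    simp [Φ]
  rw [hker, RingHom.mem_ker, map_sub] at hmem
  have h0 : ψ a - φ a = 0 := by simpa [Φ, eq_comm] using hmem
  exact (sub_eq_zero.1 h0).symm

end GrothLib.GlobalConst
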