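import Groth.Prelude.Def_CurvBase
import Groth.Agent.Lib.GlobalConst.Algebra
import Groth.Agent.Lib.AlgSp.QuasiAffineDescent
import Groth.Agent.Lib.Rigidity.Relative.Field
import Groth.Agent.Lib.ProjCoh.Generic
import Groth.Agent.Lib.Euler.Basic
import Groth.Agent.Lib.Euler.Coh
import Mathlib.AlgebraicGeometry.Geometrically.Reduced
import Mathlib.AlgebraicGeometry.Geometrically.Connected

/-!
# Global functions of a proper scheme over a field
-/

universe u

set_option backward.isDefEq.respectTransparency false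
set_option linter.all false

open CategoryTheory CategoryTheory.Limits AlgebraicGeometry TopologicalSpace Opposite TensorProduct

noncomputable section

namespace GrothLib.GlobalConst

variable (k : Type u) [Field k] {X : Scheme.{u}} [X.Over (Spec (CommRingCat.of k))]

/-- The structure of `k`-algebra on the global functions. -/
abbrev algΓ : Algebra k Γ(X, ⊤) :=
  ((X ↘ (Spec (CommRingCat.of k))).appTop.hom.comp (Scheme.ΓSpecIso (CommRingCat.of k)).inv.hom).toAlgebra

/-- Global functions, linearly. -/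
def h0Equiv : letI := algΓ k (X := X); Coh.HH X (Coh.structureModule X) 0 ≃ₗ[k] Γ(X, ⊤) :=
  letI := algΓ k (X := X)
  { ProjCoh.H0top (Coh.structureModule X) with
    map_smul' := fun a x => ProjCoh.H0top_smul (Coh.structureModule X) a x }

variable [IsProper (X ↘ Spec (CommRingCat.of k))]

theorem finite_algΓ : letI := algΓ k (X := X); Module.Finite k Γ(X, ⊤) := by
  letI := algΓ k (X := X)
  haveI := Euler.isNoetherian_of_proper (X := X) k
  haveI := Euler.finiteDimensional_HH k (Euler.isCoh_of_isInvertible (Euler.isInvertible_structure (X := X))) 0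
  exact Module.Finite.equiv (h0Equiv k)

theorem exists_equiv_baseChange : letI := algΓ k (X := X);
    ∃ (X' : Scheme.{u}) (p : X' ⟶ X) (q : X' ⟶ Spec (CommRingCat.of (AlgebraicClosure k))),
      IsPullback p q (X ↘ Spec (CommRingCat.of k))
        (Spec.map (CommRingCat.ofHom (algebraMap k (AlgebraicClosure k)))) ∧
      Nonempty (AlgebraicClosure k ⊗[k] Γ(X, ⊤) ≃+* Γ(X', ⊤)) := by
  letI := algΓ k (X := X)
  haveI := Euler.isNoetherian_of_proper (X := X) k
  let φ := CommRingCat.ofHom (algebraMap k (AlgebraicClosure k))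
  haveI : Flat (Spec.map φ) := ((flat_and_surjective_SpecMap_iff φ).2 (by
    rw [CommRingCat.hom_ofHom, RingHom.faithfullyFlat_algebraMap_iff]; infer_instance)).1
  have sq : IsPullback (pullback.fst (X ↘ Spec (CommRingCat.of k)) (Spec.map φ)) (pullback.snd _ _)
      (X ↘ Spec (CommRingCat.of k)) (Spec.map φ) := IsPullback.of_hasPullback _ _
  have h := AlgSp.isPushout_gammaMap φ sq
  have h2 : IsPushout φ (CommRingCat.ofHom (algebraMap k Γ(X, ⊤))) _ _ :=
    CommRingCat.isPushout_tensorProduct k (AlgebraicClosure k) Γ(X, ⊤)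
  exact ⟨_, _, _, sq, ⟨(h2.isoPushout ≪≫ h.flip.isoPushout.symm).commRingCatIsoToRingEquiv⟩⟩

theorem isSeparable_algΓ [GeometricallyReduced (X ↘ Spec (CommRingCat.of k))] (hF : IsField Γ(X, ⊤)) :
    letI := algΓ k (X := X); Algebra.IsSeparable k Γ(X, ⊤) := by
  letI := algΓ k (X := X)
  obtain ⟨X', p, q, sq, ⟨e⟩⟩ := exists_equiv_baseChange k (X := X)
  haveI : IsReduced X' := GeometricallyReduced.geometrically_isReduced _ _ _ sq
  haveI : _root_.IsReduced (AlgebraicClosure k ⊗[k] Γ(X, ⊤)) := isReduced_of_injective e e.injective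
  letI := hF.toField
  haveI := finite_algΓ k (X := X)
  exact isSeparable_of_isReduced_tensor k Γ(X, ⊤)

theorem eq_zero_or_one_of_connected {Y : Scheme.{u}} [PreconnectedSpace Y] (e : Γ(Y, ⊤))
    (he : IsIdempotentElem e) : e = 0 ∨ e = 1 := by
  have hle : (Y.basicOpen e : Set Y) ∩ (Y.basicOpen (1 - e) : Set Y) = ∅ := by
    refine Set.eq_empty_iff_forall_notMem.2 fun x ⟨hx, hx'⟩ => ?_
    rw [SetLike.mem_coe, Scheme.mem_basicOpen _ _ _ (show x ∈ (⊤ : Y.Opens) from trivial)] at hx hx'
    have h := hx.mul hx'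
    rw [← map_mul, mul_sub, mul_one, he.eq, sub_self, map_zero] at h
    exact not_isUnit_zero h
  have hcov : (Y.basicOpen e : Set Y) ∪ Y.basicOpen (1 - e) = Set.univ := by
    refine Set.eq_univ_iff_forall.mpr fun x => ?_
    simp only [Set.mem_union, SetLike.mem_coe, Scheme.mem_basicOpen _ _ _ (show x ∈ (⊤ : Y.Opens) from trivial)]
    refine IsLocalRing.isUnit_or_isUnit_of_isUnit_add ?_
    rw [← map_add, add_sub_cancel, map_one]
    exact isUnit_one
  have hclopen : IsClopen (Y.basicOpen e : Set Y) := by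
    refine ⟨⟨?_⟩, (Y.basicOpen e).isOpen⟩
    rw [(IsCompl.of_le hle.le hcov.ge).compl_eq]
    exact (Y.basicOpen (1 - e)).isOpen
  have zero_of_cover : ∀ a : Γ(Y, ⊤), IsIdempotentElem a → (Y.basicOpen (1 - a) : Set Y) = Set.univ → a = 0 := by
    intro a ha h
    refine TopCat.Presheaf.section_ext Y.sheaf ⊤ a 0 fun x hx => ?_
    have hu : IsUnit (Y.presheaf.germ ⊤ x hx (1 - a)) :=
      (Scheme.mem_basicOpen _ _ x hx).1 (show x ∈ (Y.basicOpen (1 - a) : Set Y) by rw [h]; trivial)
    refine hu.mul_left_eq_zero.1 ?_ |>.trans (map_zero _).symm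
    show Y.presheaf.germ ⊤ x hx a * Y.presheaf.germ ⊤ x hx (1 - a) = 0
    rw [← map_mul, mul_sub, mul_one, ha.eq, sub_self, map_zero]
  rcases isClopen_iff.mp hclopen with h | h
  · exact Or.inl (zero_of_cover e he (by rw [← hcov, h, Set.empty_union]))
  · refine Or.inr (sub_eq_zero.1 (zero_of_cover (1 - e) he.one_sub (by rw [sub_sub_cancel]; exact h))).symm

theorem isPurelyInseparable_algΓ [GeometricallyConnected (X ↘ Spec (CommRingCat.of k))] (hF : IsField Γ(X, ⊤)) :
    letI := algΓ k (X := X); IsPurelyInseparable k Γ(X, ⊤) := by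
  letI := algΓ k (X := X)
  obtain ⟨X', p, q, sq, ⟨e⟩⟩ := exists_equiv_baseChange k (X := X)
  haveI : ConnectedSpace X' := GeometricallyConnected.geometrically_connectedSpace _ _ _ sq
  letI := hF.toField
  haveI := finite_algΓ k (X := X)
  exact isPurelyInseparable_of_idempotents k Γ(X, ⊤) fun a ha =>
    (eq_zero_or_one_of_connected (e a) (ha.map e)).imp (fun h => e.injective (h.trans (map_zero e).symm))
      (fun h => e.injective (h.trans (map_one e).symm))

/-- Dimensions of cohomology are multiples of the degree of the field of global functions. -/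
theorem dvd_finrank_HH (hF : IsField Γ(X, ⊤)) (F : X.Modules) (i : ℕ) :
    letI := algΓ k (X := X); Module.finrank k Γ(X, ⊤) ∣ Module.finrank k (Coh.HH X F i) := by
  letI := algΓ k (X := X)
  letI : Module Γ(X, ⊤) (Coh.HH X F i) := inferInstanceAs (Module (Coh.Γtop X) (Coh.HH X F i))
  haveI : IsScalarTower k Γ(X, ⊤) (Coh.HH X F i) := IsScalarTower.of_algebraMap_smul fun _ _ => rfl
  letI := hF.toField
  exact ⟨_, (Module.finrank_mul_finrank k Γ(X, ⊤) (Coh.HH X F i)).symm⟩

theorem dvd_euler (hF : IsField Γ(X, ⊤)) (F : X.Modules) :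
    letI := algΓ k (X := X); (Module.finrank k Γ(X, ⊤) : ℤ) ∣ Curv2.euler k X F := by
  letI := algΓ k (X := X)
  unfold Curv2.euler
  refine finsum_induction (fun z => (Module.finrank k Γ(X, ⊤) : ℤ) ∣ z) (dvd_zero _)
    (fun a b => dvd_add) fun i => Dvd.dvd.mul_left (Int.natCast_dvd_natCast.2 (dvd_finrank_HH k hF F i)) _

theorem dvd_finrank_residueField (hF : IsField Γ(X, ⊤)) (x : X) :
    letI := algΓ k (X := X);
    letI := Curv2.resAlgebra k X x;
    Module.finrank k Γ(X, ⊤) ∣ Module.finrank k (X.residueField x) := by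
  letI := algΓ k (X := X)
  letI := hF.toField
  letI := ((X.residue x).hom.comp (X.presheaf.germ ⊤ x trivial).hom).toAlgebra
  letI := Curv2.resAlgebra k X x
  haveI : IsScalarTower k Γ(X, ⊤) (X.residueField x) := IsScalarTower.of_algebraMap_eq fun _ => rfl
  exact ⟨_, (Module.finrank_mul_finrank k Γ(X, ⊤) (X.residueField x)).symm⟩

end GrothLib.GlobalConst
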